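import Cfsg.Agent.Fisch.St.Defs
import Cfsg.Agent.Bt.Res

set_option autoImplicit false
set_option maxRecDepth 1000000

namespace CF.Jj.Mj

open CF.Comp CF.Fisch CF.Bt

noncomputable def X_0 : Net := (Net.cons (nat_lit 1) (nat_lit 0x5050001015144441411005040) (Net.cons (nat_lit 2) (nat_lit 0x23010000203323112300000) (Net.cons (nat_lit 4) (nat_lit 0x70807020503010408040203) (Net.cons (nat_lit 8) (nat_lit 0x5a0016004200d800300002) (Net.cons (nat_lit 16) (nat_lit 0x91a80000e11800000004) (Net.cons (nat_lit 32) (nat_lit 0xc0000000063d28240) (Net.cons (nat_lit 64) (nat_lit 0x777dece78) (Net.cons (nat_lit 32) (nat_lit 0xa0000000058d70cb9) (Net.cons (nat_lit 16) (nat_lit 0x36110000e0840000738a) (Net.cons (nat_lit 8) (nat_lit 0xfb00c500cb0094005d009e) (Net.cons (nat_lit 4) (nat_lit 0x80a0f040c0c0c0201030e0c) (Net.cons (nat_lit 2) (nat_lit 0x3120313323230020112021333) (Net.cons (nat_lit 1) (nat_lit 0x505151540411414144150515) Net.nil)))))))))))))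
noncomputable def X_1 : Net := (Net.cons (nat_lit 1) (nat_lit 0x11444111140114555011400) (Net.cons (nat_lit 2) (nat_lit 0x223112110121303111221200) (Net.cons (nat_lit 4) (nat_lit 0x307070608030700080e0000) (Net.cons (nat_lit 8) (nat_lit 0xbe00d00081002c00e00000) (Net.cons (nat_lit 16) (nat_lit 0xfb600000420000000000) (Net.cons (nat_lit 32) (nat_lit 1399726160) (Net.cons (nat_lit 64) (nat_lit 0x45f7ffdd3) (Net.cons (nat_lit 32) (nat_lit 0x800000000a4e8d98b) (Net.cons (nat_lit 16) (nat_lit 0xdd6000076b30000d77f) (Net.cons (nat_lit 8) (nat_lit 0x4a0032003400050036001c) (Net.cons (nat_lit 4) (nat_lit 0x20602070301060d0d07030d) (Net.cons (nat_lit 2) (nat_lit 0x330223103210102212112110) (Net.cons (nat_lit 1) (nat_lit 0x1015044011541144155451440) Net.nil)))))))))))))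
noncomputable def X_2 : Net := (Net.cons (nat_lit 1) (nat_lit 0x5510454005154515000141450) (Net.cons (nat_lit 2) (nat_lit 0x3303010333233103101010000) (Net.cons (nat_lit 4) (nat_lit 0x20204060c010e04080c0c0b) (Net.cons (nat_lit 8) (nat_lit 0x20025009f00800005000c) (Net.cons (nat_lit 16) (nat_lit 0x69330000003800000002) (Net.cons (nat_lit 32) (nat_lit 0xa0000000098ad2010) (Net.cons (nat_lit 64) (nat_lit 0x79baf74d8) (Net.cons (nat_lit 32) (nat_lit 0x9000000003cdc5ad9) (Net.cons (nat_lit 16) (nat_lit 0xb633000014b200004b3a) (Net.cons (nat_lit 8) (nat_lit 0xc004000fb003300fb005f) (Net.cons (nat_lit 4) (nat_lit 0xd05010b0b020e0b040b0104) (Net.cons (nat_lit 2) (nat_lit 0x1020111000221132130311233) (Net.cons (nat_lit 1) (nat_lit 0x45101550401040555414105) Net.nil)))))))))))))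
noncomputable def X_3 : Net := (Net.cons (nat_lit 1) (nat_lit 0x5540154114000001010450410) (Net.cons (nat_lit 2) (nat_lit 0x2222321102232322003233030) (Net.cons (nat_lit 4) (nat_lit 0xe0d0f000500000805040004) (Net.cons (nat_lit 8) (nat_lit 0xd1005d00e000a000c50003) (Net.cons (nat_lit 16) (nat_lit 0xa84000070a400000005) (Net.cons (nat_lit 32) (nat_lit 0x700000000201b0010) (Net.cons (nat_lit 64) (nat_lit 0xca81ba6fb) (Net.cons (nat_lit 32) (nat_lit 0xa00000000e1b0164d) (Net.cons (nat_lit 16) (nat_lit 0x578a0000d96f00007b41) (Net.cons (nat_lit 8) (nat_lit 0xbb00ef002400ff000600e2) (Net.cons (nat_lit 4) (nat_lit 0xa0206070a060c07040c0901) (Net.cons (nat_lit 2) (nat_lit 0x3032012332331231111321101) (Net.cons (nat_lit 1) (nat_lit 0x5514155114001001004450001) Net.nil)))))))))))))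
noncomputable def X_4 : Net := (Net.cons (nat_lit 1) (nat_lit 0x155114110041401540411400) (Net.cons (nat_lit 2) (nat_lit 0x202031110312132223100000) (Net.cons (nat_lit 4) (nat_lit 0x109030f020c0900040a0504) (Net.cons (nat_lit 8) (nat_lit 0x16005400310036002c0000) (Net.cons (nat_lit 16) (nat_lit 0x90600000450400000004) (Net.cons (nat_lit 32) (nat_lit 0xc00000000020ec050) (Net.cons (nat_lit 64) (nat_lit 0x8c23ff055) (Net.cons (nat_lit 32) (nat_lit 0xc0000000061b9a6c0) (Net.cons (nat_lit 16) (nat_lit 0xff5b0000639800006ad5) (Net.cons (nat_lit 8) (nat_lit 0x64005600370072000e0007) (Net.cons (nat_lit 4) (nat_lit 0x30a010d0d0e0d0206080204) (Net.cons (nat_lit 2) (nat_lit 0x213031111212322223100110) (Net.cons (nat_lit 1) (nat_lit 0x155014110041401540410401) Net.nil)))))))))))))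
noncomputable def X_5 : Net := (Net.cons (nat_lit 1) (nat_lit 0x5050451511404100440011100) (Net.cons (nat_lit 2) (nat_lit 0x2011033311102010200100000) (Net.cons (nat_lit 4) (nat_lit 0x109000e060f020105020400) (Net.cons (nat_lit 8) (nat_lit 0x300560075002200220000) (Net.cons (nat_lit 16) (nat_lit 0x83800000080800000008) (Net.cons (nat_lit 32) (nat_lit 0x40000000094004700) (Net.cons (nat_lit 64) (nat_lit 0xe96105780) (Net.cons (nat_lit 32) (nat_lit 0x50000000084695f00) (Net.cons (nat_lit 16) (nat_lit 0xb78a00003c1800003408) (Net.cons (nat_lit 8) (nat_lit 0x30056007700a200a20043) (Net.cons (nat_lit 4) (nat_lit 0x909010e060a020105020405) (Net.cons (nat_lit 2) (nat_lit 0x2011033211113010200100111) (Net.cons (nat_lit 1) (nat_lit 0x5051451511404100444011100) Net.nil)))))))))))))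
noncomputable def X_6 : Net := (Net.cons (nat_lit 1) (nat_lit 0x1010041110000401504010110) (Net.cons (nat_lit 2) (nat_lit 0x311130120300223021213010) (Net.cons (nat_lit 4) (nat_lit 0xc010d0a010100030e000803) (Net.cons (nat_lit 8) (nat_lit 0x1e002600da00650088000a) (Net.cons (nat_lit 16) (nat_lit 0x55010000598000000003) (Net.cons (nat_lit 32) (nat_lit 0xc0000000027847000) (Net.cons (nat_lit 64) (nat_lit 0x5678e78e9) (Net.cons (nat_lit 32) (nat_lit 0x60000000038bfd2e0) (Net.cons (nat_lit 16) (nat_lit 0x1e91000043680000ba76) (Net.cons (nat_lit 8) (nat_lit 0x160079005d00d000e500c6) (Net.cons (nat_lit 4) (nat_lit 0xf000e05030b0f0b0c020409) (Net.cons (nat_lit 2) (nat_lit 0x2212313102202122230123033) (Net.cons (nat_lit 1) (nat_lit 0x144404110155510050151144) Net.nil)))))))))))))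
noncomputable def X_7 : Net := (Net.cons (nat_lit 1) (nat_lit 0x555500104144015041501110) (Net.cons (nat_lit 2) (nat_lit 0x1313131131121130032332020) (Net.cons (nat_lit 4) (nat_lit 0xd080c0c070307050405000b) (Net.cons (nat_lit 8) (nat_lit 0x9c000500a5008400a10004) (Net.cons (nat_lit 16) (nat_lit 0xa0460000a6d800000000) (Net.cons (nat_lit 32) (nat_lit 1778603184) (Net.cons (nat_lit 64) (nat_lit 0x3eec357b1) (Net.cons (nat_lit 32) (nat_lit 0xf0000000068edbe21) (Net.cons (nat_lit 16) (nat_lit 0x3dc60000fe0d0000b134) (Net.cons (nat_lit 8) (nat_lit 0x1f009c007c007d00bf00d9) (Net.cons (nat_lit 4) (nat_lit 0xf0000000e020e060d020402) (Net.cons (nat_lit 2) (nat_lit 0x3303002223031230320133231) (Net.cons (nat_lit 1) (nat_lit 0x4405001040154055144555110) Net.nil)))))))))))))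
noncomputable def X_8 : Net := (Net.cons (nat_lit 1) (nat_lit 0x4050144114150401440000000) (Net.cons (nat_lit 2) (nat_lit 0x3320130231000221311202000) (Net.cons (nat_lit 4) (nat_lit 0xc01080c0008060507050100) (Net.cons (nat_lit 8) (nat_lit 0xf000190040000200040000) (Net.cons (nat_lit 16) (nat_lit 0xa8060000104000000000) (Net.cons (nat_lit 32) (nat_lit 2896298032) (Net.cons (nat_lit 64) (nat_lit 0x4aca20034) (Net.cons (nat_lit 32) (nat_lit 0x300000000bcaa8c72) (Net.cons (nat_lit 16) (nat_lit 0xb2ce0000124000007511) (Net.cons (nat_lit 8) (nat_lit 0xf0009d00c0004300c10001) (Net.cons (nat_lit 4) (nat_lit 0x5010804090c060503030500) (Net.cons (nat_lit 2) (nat_lit 0x3323130231000321310202100) (Net.cons (nat_lit 1) (nat_lit 0x4055144114150401440000000) Net.nil)))))))))))))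
noncomputable def X_9 : Net := (Net.cons (nat_lit 1) (nat_lit 0x401415540005401401404140) (Net.cons (nat_lit 2) (nat_lit 0x312002331210012102002210) (Net.cons (nat_lit 4) (nat_lit 0x400000300020901010108) (Net.cons (nat_lit 8) (nat_lit 0x7200c90025003000000002) (Net.cons (nat_lit 16) (nat_lit 0xd104000004500000000b) (Net.cons (nat_lit 32) (nat_lit 1096810672) (Net.cons (nat_lit 64) (nat_lit 0x1f1fa61b1) (Net.cons (nat_lit 32) (nat_lit 0xe00000000416186fc) (Net.cons (nat_lit 16) (nat_lit 0xff24000010740000280b) (Net.cons (nat_lit 8) (nat_lit 0x7200c90021003400400016) (Net.cons (nat_lit 4) (nat_lit 0x500000b0a030901030108) (Net.cons (nat_lit 2) (nat_lit 0x312002331210012102002210) (Net.cons (nat_lit 1) (nat_lit 0x401415540005401401404140) Net.nil)))))))))))))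
noncomputable def X_10 : Net := (Net.cons (nat_lit 1) (nat_lit 0x1001111105410011050154000) (Net.cons (nat_lit 2) (nat_lit 0x3001220021123213122300330) (Net.cons (nat_lit 4) (nat_lit 0x40d040a0c01000b0400040b) (Net.cons (nat_lit 8) (nat_lit 0x420072002f000000cc0005) (Net.cons (nat_lit 16) (nat_lit 0xe1010000c9140000000c) (Net.cons (nat_lit 32) (nat_lit 0x800000000249c69c0) (Net.cons (nat_lit 64) (nat_lit 0x127dfedf9) (Net.cons (nat_lit 32) (nat_lit 0xf00000000bad00ff1) (Net.cons (nat_lit 16) (nat_lit 0xc2300000090a0000e9ae) (Net.cons (nat_lit 8) (nat_lit 0xe200da00bb000800db0079) (Net.cons (nat_lit 4) (nat_lit 0xb060800070a0706020f0a08) (Net.cons (nat_lit 2) (nat_lit 0x3310331100230010233031121) (Net.cons (nat_lit 1) (nat_lit 0x1141155114000415454154000) Net.nil)))))))))))))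
noncomputable def X_11 : Net := (Net.cons (nat_lit 1) (nat_lit 0x1000411554010504140400144) (Net.cons (nat_lit 2) (nat_lit 0x1222133332201211100010000) (Net.cons (nat_lit 4) (nat_lit 0x604020f0a030c080a0b0800) (Net.cons (nat_lit 8) (nat_lit 0x72009b0060005900160000) (Net.cons (nat_lit 16) (nat_lit 0x212e0000011500000006) (Net.cons (nat_lit 32) (nat_lit 738334880) (Net.cons (nat_lit 64) (nat_lit 0xf6d0eb8a6) (Net.cons (nat_lit 32) (nat_lit 0x4000000000d3228e4) (Net.cons (nat_lit 16) (nat_lit 0xb3f0000cb3500003816) (Net.cons (nat_lit 8) (nat_lit 0xd6009b0044006900a60011) (Net.cons (nat_lit 4) (nat_lit 0x604060e0a030c090b0b0800) (Net.cons (nat_lit 2) (nat_lit 0x1222133332201211100110022) (Net.cons (nat_lit 1) (nat_lit 0x1000411554010504140400144) Net.nil)))))))))))))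
noncomputable def X : List Net := [X_0, X_1, X_2, X_3, X_4, X_5, X_6, X_7, X_8, X_9, X_10, X_11]
noncomputable def X1_0 : Net := (Net.cons (nat_lit 1) (nat_lit 0x4151044414141005511004150) (Net.cons (nat_lit 2) (nat_lit 0x3123002222202202002103000) (Net.cons (nat_lit 4) (nat_lit 0x506090d030106090b0a0204) (Net.cons (nat_lit 8) (nat_lit 0xf200ce001d0002000a0008) (Net.cons (nat_lit 16) (nat_lit 0x20090000542200000000) (Net.cons (nat_lit 32) (nat_lit 0x3000000001f894320) (Net.cons (nat_lit 64) (nat_lit 0xfdf8de334) (Net.cons (nat_lit 32) (nat_lit 0x10000000013bedb36) (Net.cons (nat_lit 16) (nat_lit 0xda510000e65f0000189a) (Net.cons (nat_lit 8) (nat_lit 0x8200d7009700f5006d0024) (Net.cons (nat_lit 4) (nat_lit 0x60604060f0b0a070a010305) (Net.cons (nat_lit 2) (nat_lit 0x3110132211302020201123032) (Net.cons (nat_lit 1) (nat_lit 0x1454154540005540511510055) Net.nil)))))))))))))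
noncomputable def X1_1 : Net := (Net.cons (nat_lit 1) (nat_lit 0x1514414101055104410041500) (Net.cons (nat_lit 2) (nat_lit 0x3103002031123213120000120) (Net.cons (nat_lit 4) (nat_lit 0x506070e090e03070c0b0600) (Net.cons (nat_lit 8) (nat_lit 0xb70048006c0068003a000d) (Net.cons (nat_lit 16) (nat_lit 0x3508000012270000000a) (Net.cons (nat_lit 32) (nat_lit 0x200000000d3aa0400) (Net.cons (nat_lit 64) (nat_lit 0x5d3fb35aa) (Net.cons (nat_lit 32) (nat_lit 0xd000000003ecb4b94) (Net.cons (nat_lit 16) (nat_lit 0xb44a00000fa9000002c1) (Net.cons (nat_lit 8) (nat_lit 0x4400ce008900e400e100d2) (Net.cons (nat_lit 4) (nat_lit 0x30609090e07060b0a050609) (Net.cons (nat_lit 2) (nat_lit 0x2303300001102032222132220) (Net.cons (nat_lit 1) (nat_lit 0x4405554050441414155404040) Net.nil)))))))))))))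
noncomputable def X1_2 : Net := (Net.cons (nat_lit 1) (nat_lit 0x5400414405141004500004550) (Net.cons (nat_lit 2) (nat_lit 0x1010110112332331213210300) (Net.cons (nat_lit 4) (nat_lit 0xf020e090c0a0d010e01020d) (Net.cons (nat_lit 8) (nat_lit 0xa5002400fa0026001e0001) (Net.cons (nat_lit 16) (nat_lit 0x54480000856e00000005) (Net.cons (nat_lit 32) (nat_lit 0xc0000000084811060) (Net.cons (nat_lit 64) (nat_lit 0x3e4e1967e) (Net.cons (nat_lit 32) (nat_lit 0x4000000000551a20d) (Net.cons (nat_lit 16) (nat_lit 0xde0e0000ccac00007c86) (Net.cons (nat_lit 8) (nat_lit 0xd700b40057005c00ba0008) (Net.cons (nat_lit 4) (nat_lit 0x408060108070c050b00070f) (Net.cons (nat_lit 2) (nat_lit 0x322112110333332311131123) (Net.cons (nat_lit 1) (nat_lit 0x4510444440455455100415550) Net.nil)))))))))))))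
noncomputable def X1_3 : Net := (Net.cons (nat_lit 1) (nat_lit 0x4040455001440411414100040) (Net.cons (nat_lit 2) (nat_lit 0x1213202231031122011130010) (Net.cons (nat_lit 4) (nat_lit 0xa0502080c0105010a050c08) (Net.cons (nat_lit 8) (nat_lit 0xea006900630050002e0008) (Net.cons (nat_lit 16) (nat_lit 0xe05100008ae800000004) (Net.cons (nat_lit 32) (nat_lit 0xd0000000010571280) (Net.cons (nat_lit 64) (nat_lit 0x15677f39e) (Net.cons (nat_lit 32) (nat_lit 0x400000000da231319) (Net.cons (nat_lit 16) (nat_lit 0xbcb5000057d9000098fa) (Net.cons (nat_lit 8) (nat_lit 0x4c002a003d005900af0001) (Net.cons (nat_lit 4) (nat_lit 0xf0a01050b0d09060505030b) (Net.cons (nat_lit 2) (nat_lit 0x321313333230130200030102) (Net.cons (nat_lit 1) (nat_lit 0x1441445005555554514055145) Net.nil)))))))))))))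
noncomputable def X1_4 : Net := (Net.cons (nat_lit 1) (nat_lit 0x5410041140555541405004100) (Net.cons (nat_lit 2) (nat_lit 0x113321002001002300202000) (Net.cons (nat_lit 4) (nat_lit 0xc0308060b000804090700) (Net.cons (nat_lit 8) (nat_lit 0x4f00600080001600220004) (Net.cons (nat_lit 16) (nat_lit 0x31080000402400000001) (Net.cons (nat_lit 32) (nat_lit 0x400000000d4c10010) (Net.cons (nat_lit 64) (nat_lit 0x2f4d355d4) (Net.cons (nat_lit 32) (nat_lit 0xd0000000096756089) (Net.cons (nat_lit 16) (nat_lit 0x53ba000002940000c091) (Net.cons (nat_lit 8) (nat_lit 0x4d004000a2001600080006) (Net.cons (nat_lit 4) (nat_lit 0x20e010a0409080a060b0700) (Net.cons (nat_lit 2) (nat_lit 0x113321002001003300202000) (Net.cons (nat_lit 1) (nat_lit 0x5410041140555541405004100) Net.nil)))))))))))))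
noncomputable def X1_5 : Net := (Net.cons (nat_lit 1) (nat_lit 0x551441151540504505555044) (Net.cons (nat_lit 2) (nat_lit 0x103321221000320020220110) (Net.cons (nat_lit 4) (nat_lit 0x90602040c0e080e02030f06) (Net.cons (nat_lit 8) (nat_lit 0x4d00dc009700e000a30004) (Net.cons (nat_lit 16) (nat_lit 0x35810000011400000000) (Net.cons (nat_lit 32) (nat_lit 0x8000000002b518000) (Net.cons (nat_lit 64) (nat_lit 0x73f51a99e) (Net.cons (nat_lit 32) (nat_lit 0x4000000009b55aed6) (Net.cons (nat_lit 16) (nat_lit 0x3fd600001370000067a0) (Net.cons (nat_lit 8) (nat_lit 0x8c000c00a4007c0068003d) (Net.cons (nat_lit 4) (nat_lit 0xc00030d0d0b0609090a0a01) (Net.cons (nat_lit 2) (nat_lit 0x200332201100030021210002) (Net.cons (nat_lit 1) (nat_lit 0x4141114001450505444410001) Net.nil)))))))))))))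
noncomputable def X1_6 : Net := (Net.cons (nat_lit 1) (nat_lit 0x5105400401100145401014000) (Net.cons (nat_lit 2) (nat_lit 0x2323203300232202333102020) (Net.cons (nat_lit 4) (nat_lit 0xb0a06020101000103030600) (Net.cons (nat_lit 8) (nat_lit 0xfb00960015000400200004) (Net.cons (nat_lit 16) (nat_lit 0x459a0000180500000000) (Net.cons (nat_lit 32) (nat_lit 0x40000000030914c00) (Net.cons (nat_lit 64) (nat_lit 0x331b16e46) (Net.cons (nat_lit 32) (nat_lit 0xe0000000038d7d852) (Net.cons (nat_lit 16) (nat_lit 0x87fe00003e2700002369) (Net.cons (nat_lit 8) (nat_lit 0xdd00d60017006400100024) (Net.cons (nat_lit 4) (nat_lit 0xd0c02000307020f01030404) (Net.cons (nat_lit 2) (nat_lit 0x2323203310232202333102020) (Net.cons (nat_lit 1) (nat_lit 0x5105404401104141441114100) Net.nil)))))))))))))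
noncomputable def X1 : List Net := [X1_0, X1_1, X1_2, X1_3, X1_4, X1_5, X1_6]
noncomputable def ws : List (List Nat) := [[2, 15, 5, 11, 13, 7, 15, 13, 13], [12, 5, 13, 7, 11, 16], [9, 14, 3, 8, 8, 8, 13, 13, 16], [5, 13, 3, 16, 13, 8, 15, 14, 14, 16], [16, 10, 8, 14, 12], [5, 7, 3, 9, 14, 11, 14], [2, 5, 10, 5, 14, 14, 8, 11, 13, 16], [3, 8, 5, 10, 11, 7, 14, 14, 15], [8, 10, 5, 9, 8, 12, 13, 15, 17], [14, 3, 15, 9, 14, 14, 16, 17], [2, 13, 3, 9, 11, 14], [4, 7, 3, 13, 7, 10, 13]]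
noncomputable def W : List (List Nat) := [[14, 22, 13, 23, 14], [2, 13, 18, 21, 23, 13], [25, 28, 28, 26, 27, 27, 26, 26], [28, 28, 26, 28, 26, 26, 27, 27], [32, 30, 31, 31, 30, 31], [32, 32, 29, 31, 29], [35, 35, 35, 35, 33]]
noncomputable def c : List Lvl := [⟨(nat_lit 71), [[(nat_lit 1)],
  [(nat_lit 13)],
  [(nat_lit 17)],
  [(nat_lit 21)],
  [(nat_lit 23)]], (nat_lit 3)⟩,
  ⟨(nat_lit 54), [[(nat_lit 25)],
  [(nat_lit 27)]], (nat_lit 6)⟩,
  ⟨(nat_lit 58), [[(nat_lit 29)],
  [(nat_lit 31)]], (nat_lit 4)⟩,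
  ⟨(nat_lit 80), [[(nat_lit 33)],
  [(nat_lit 35)]], (nat_lit 3)⟩,
  ⟨(nat_lit 0), [[(nat_lit 37)]], (nat_lit 1)⟩]
noncomputable def v : List Nat := []
noncomputable def Ss : List Nat := [2361471471810974318593, 306244774661193728, 1208925819614629174706177]
noncomputable def R : Nat := 1606938044258990275541962092342430253122431223184289538506753
noncomputable def V : Nat := 1942668892225729070919463513761563166020893753430252950062268717993632216905125199873
noncomputable def e : Fisch.Sm := eqM (lapp X X1) R V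
noncomputable def zT : Tr := (.sym [[1], [3], [5], [7], [9]] (.cons [] 2 48 (.op 4 0 (.focus 0 (.cons [] 0 48 (.base (nat_lit 0x220060080402090002040800) (.focus 0 (.sym [[3], [11]] (.cons [] 3 8 (.base (nat_lit 0x4080108000000000040004402) (.focus 0 (.sym [[11]] (.cons [] 7 1 (.op 4 0 (.focus 0 (.cons [] 0 1 .triv .nil))) .nil)))) (.cons [1] 2 0 (.op 5 0 (.and 1 0 (.dead0 0))) .nil))))) .nil))) (.cons [3] 3 0 (.op 5 0 (.and 1 0 (.dead0 0))) .nil)))
noncomputable def zTK : List (List Nat) := [[1], [13, 15, 15], [17, 19], [13, 15, 15, 21, 13, 15, 15, 21, 13, 15, 15, 21, 17, 19], [13, 15, 15, 17], [17, 1, 13, 15, 15, 1, 17, 19, 1]]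
noncomputable def zTF : List (List Nat) := [[], [1]]
noncomputable def vT : Tr := (.sym [[1], [3], [5]] (.cons [] 2 48 (.op 4 0 (.focus 0 (.cons [] 0 48 (.base (nat_lit 0x220060080402090002040800) (.focus 0 (.sym [[3], [7]] (.cons [] 3 8 (.base (nat_lit 0x4080108000000000040004402) (.focus 0 (.sym [[9], [11]] (.cons [] 3 1 (.op 4 0 (.focus 0 (.cons [] 0 1 .triv .nil))) .nil)))) (.cons [1] 2 0 (.op 5 0 (.and 1 0 (.dead0 0))) .nil))))) .nil))) (.cons [4] 2 0 (.op 8 0 (.and 1 0 (.dead0 0))) (.cons [9] 6 0 (.op 11 0 (.and 1 0 (.dead0 0))) (.cons [3] 2 0 (.op 5 0 (.and 1 0 (.dead0 0))) (.cons [16, 1] 2 0 (.op 5 0 (.and 1 0 (.dead0 0))) .nil))))))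
noncomputable def vTK : List (List Nat) := [[1], [13, 15, 15], [19], [1, 16, 16, 14, 1, 19, 1], [1, 19, 1, 19, 13, 15, 15, 1, 16, 16, 14], [1, 19, 1, 13, 15, 15, 1]]
noncomputable def vTF : List (List Nat) := [[], [1], [3], [1, 3]]
noncomputable def yT : Tr := (.sym [[1], [3], [5], [7]] (.cons [] 3 12 (.base (nat_lit 0x27e2e02a84223901a2c529c1) (.op 4 0 (.focus 0 (.base (nat_lit 0xfd81d1f557bddc6fe5d3ad63e) (.focus 0 (.sym [[9], [11]] (.cons [] 1 4 (.focus 3 (.focus 2 (.base (nat_lit 0x220060080402090002040800) (.focus 0 (.sym [[13], [15]] (.cons [] 1 2 (.focus 4 (.base (nat_lit 0x4080108000000000040004402) (.focus 0 (.sym [[15]] (.cons [] 1 1 (.base (nat_lit 4194305) (.focus 0 (.cons [] 0 1 .triv (.cons [1] 0 0 (.base (nat_lit 512) (.op 4 1 (.and 1 0 (.dead0 0)))) .nil)))) .nil))))) (.cons [3, 3] 1 0 (.focus 4 (.base (nat_lit 0x4080108000000000040004402) (.focus 0 (.sym [[15]] (.cons [3, 3] 1 0 (.focus 7 (.base (nat_lit 4194305) (.focus 0 (.cons [] 0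 0 (.base (nat_lit 16) (.op 4 0 (.base (nat_lit 4096) (.and 1 0 (.dead0 0))))) (.cons [1] 0 0 (.base (nat_lit 64) (.op 4 3 (.and 1 0 (.dead0 0)))) .nil))))) .nil))))) (.cons [2, 3] 1 0 (.base (nat_lit 2048) (.op 4 1 (.and 1 0 (.dead0 0)))) .nil)))))))) (.cons [7, 2] 2 0 (.base (nat_lit 0x220060080402090002040800) (.op 4 1 (.and 1 0 (.dead0 0)))) (.cons [4, 2] 2 0 (.base (nat_lit 0x220060080402090002040800) (.op 4 1 (.and 1 0 (.dead0 0)))) (.cons [8, 4] 2 0 (.base (nat_lit 0x220060080402090002040800) (.op 4 1 (.and 1 0 (.dead0 0)))) .nil)))))))))) (.cons [7] 3 0 (.base (nat_lit 0xfd81d1f557bddc6fe5d3ad63e) (.op 4 1 (.and 1 0 (.dead0 0)))) .nil)))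
noncomputable def yTK : List (List Nat) := [[3], [17], [23], [15], [23, 15, 23, 15, 17], [23, 17, 23], [23, 16, 17, 23], [23, 16, 17, 23, 15, 17]]
noncomputable def yTF : List (List Nat) := [[], [1]]
noncomputable def cP : List Lvl := [⟨84, [[1], [3], [5], [7]], 3⟩, ⟨0, [[4, 1], [7, 3, 1, 7]], 3⟩]
noncomputable def cV : List Lvl := [⟨39, [[1], [3], [5]], 6⟩, ⟨59, [[3], [5]], 2⟩]
noncomputable def cY : List Lvl := [⟨90, [[1], [3], [5], [7]], 3⟩, ⟨49, [[5], [7, 5, 8, 5, 3]], 2⟩]
noncomputable def cG : List Lvl := [⟨75, [[1], [3], [5], [7]], 3⟩, ⟨39, [[3, 1, 7], [3, 7, 3, 5], [1, 7, 3, 1, 7, 1]], 2⟩, ⟨36, [[3, 7, 3, 5]], 1⟩]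
noncomputable def cL : List Lvl := [⟨0, [[1], [3], [5], [7], [9]], 4⟩, ⟨1, [[4, 1, 7, 3], [4, 5, 9, 5]], 7⟩, ⟨2, [[1, 10, 2, 9, 6, 9], [1, 4, 10, 1, 9, 2, 9, 2]], 5⟩, ⟨3, [[2, 8, 4, 10, 7, 3, 9, 1]], 2⟩]
noncomputable def uy : List (List Nat) := [[3], [5], [7]]
noncomputable def wy : List (List Nat) := [[5, 1, 3, 1, 5, 1, 3, 1, 5], [1, 5, 1, 5, 3, 1, 5, 1, 3, 1], [5, 3, 5, 1, 3, 1, 5, 3], [5, 1, 3, 1, 5]]
noncomputable def uB : List (List Nat) := [[4, 1, 4, 1, 3, 1, 3], [1, 4, 1, 3, 1]]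
noncomputable def nB : List (List (List Nat)) := [[[3, 1, 3, 1, 4, 1, 3, 1], [4]]]
noncomputable def gb : List Nat := [1, 21]
noncomputable def gβ : List Nat := [15, 23]

end CF.Jj.Mj
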